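import Cfsg.Agent.TwoFusionB.ThreeInvolIso

/-!
# Centre, commutators and centralisers in the group of order 64 with three involutions
-/

set_option autoImplicit false

namespace Cfsg.Agent.PComp40

open Subgroup Cfsg.Agent.TwoFusionB
open scoped commutatorElement

/-- The polar form of `sq64`. -/
def polar64 (v w : (ZMod 2 × ZMod 2) × ZMod 2 × ZMod 2) : ZMod 2 × ZMod 2 :=
  sq64 (v + w) + (sq64 v + sq64 w)

theorem polar64_surj : ∀ v, v ≠ 0 → ∀ z, ∃ w, polar64 v w = z := by decide

theorem polar64_nondeg : ∀ v, (∀ w, polar64 v w = 0) → v = 0 := by decide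

variable {T : Type*} [Group T] [Finite T] {ψ : MulAut T} (h : Shape64 ψ)
include h

theorem center_facts :
    (∀ z : T, z ∈ center T ↔ z ^ 2 = 1) ∧ Nat.card (center T) = 4 ∧
      (∀ x : T, x ^ 2 ∈ center T) ∧ commutator T = center T ∧
      (∀ x : T, x ∉ center T → ∀ z ∈ center T, ∃ y : T, y * x * y⁻¹ = x * z) ∧
      ∀ x : T, x ∉ center T → Nat.card (centralizer ({x} : Set T)) = 16 := by
  obtain ⟨c, e, hc, hsurj, hker, headd, heinj, hec, hsq⟩ := h.exists_coords
  have he0 : e 0 = 1 := by
    have := headd 0 0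
    rw [add_zero] at this
    exact mul_eq_left.1 this.symm
  have hee : ∀ p, e p * e p = 1 := fun p => by
    rw [← headd, show p + p = 0 by revert p; decide, he0]
  have hcm : ∀ x y, cm x y = e (polar64 (c x) (c y)) := by
    intro x y
    have h1 := h.mul_sq' x y
    rw [hsq, hsq, hsq, hc, ← headd] at h1
    rw [polar64, headd, h1, mul_assoc, hee, mul_one]
  have hmem : ∀ z : T, z ∈ center T ↔ z ^ 2 = 1 := by
    intro z
    rw [pow_two]
    refine ⟨fun hz => ?_, h.three.cent z⟩
    have h0 : c z = 0 := by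
      refine polar64_nondeg _ fun w => heinj ?_
      obtain ⟨y, rfl⟩ := hsurj w
      rw [← hcm, he0, cm, ← mem_center_iff.1 hz y]
      group
    obtain ⟨w, rfl⟩ := (hker z).1 h0
    exact hee w
  have hcard : Nat.card (center T) = 4 := by
    rw [← h.three.card4]
    exact Nat.card_congr (Equiv.subtypeEquivRight fun z => by rw [hmem, pow_two])
  have hnot : ∀ x : T, x ∉ center T → c x ≠ 0 := fun x hx h0 => by
    obtain ⟨w, rfl⟩ := (hker x).1 h0
    exact hx (mem_center_iff.2 (hec w))
  have hcon : ∀ x : T, x ∉ center T → ∀ z ∈ center T, ∃ y : T, cm x y = z := by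
    intro x hx z hz
    obtain ⟨w, rfl⟩ : ∃ w, e w = z := by
      refine (hker z).1 (by_contra fun h0 => ?_)
      have h2 : z * z = 1 := by rw [← pow_two]; exact (hmem z).1 hz
      rw [hsq, ← he0] at h2
      exact h0 (sq64_eq_zero _ (heinj h2))
    obtain ⟨v, hv⟩ := polar64_surj _ (hnot x hx) w
    obtain ⟨y, rfl⟩ := hsurj v
    exact ⟨y, by rw [hcm, hv]⟩
  refine ⟨hmem, hcard, fun x => ?_, ?_, fun x hx z hz => ?_, fun x hx => ?_⟩
  · rw [pow_two, hsq, mem_center_iff]
    exact hec _
  · refine le_antisymm ?_ fun z hz => ?_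
    · rw [_root_.commutator_def, commutator_le]
      intro a _ b _
      exact h.cm_center a b
    · obtain ⟨u, hu⟩ : ∃ u : T, u ∉ center T := by
        by_contra hall
        push Not at hall
        have h1 : Nat.card (center T) = Nat.card T := by rw [(eq_top_iff.2 fun u _ => hall u : center T = ⊤), card_top]
        rw [hcard, h.card] at h1
        omega
      obtain ⟨y, hy⟩ := hcon u hu z hz
      rw [← hy, _root_.commutator_def]
      exact commutator_mem_commutator (mem_top u) (mem_top y)
  · obtain ⟨y, hy⟩ := hcon x hx z hz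
    refine ⟨y, ?_⟩
    have h1 : cm y x = z := by rw [h.cm_comm]; exact hy
    have h2 : y * x * y⁻¹ = z * x := by rw [← h1, cm]; group
    rw [h2, mem_center_iff.1 hz x]
  · let φ : T →* T := MonoidHom.mk' (fun y => cm x y) (h.cm_mul x)
    have hrange : φ.range = center T := by
      refine le_antisymm ?_ fun z hz => ?_
      · rintro _ ⟨y, rfl⟩; exact h.cm_center x y
      · obtain ⟨y, hy⟩ := hcon x hx z hz; exact ⟨y, hy⟩
    have hk : φ.ker = centralizer ({x} : Set T) := by
      ext y
      rw [MonoidHom.mem_ker, mem_centralizer_singleton_iff]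
      show x * y * x⁻¹ * y⁻¹ = 1 ↔ y * x = x * y
      rw [mul_inv_eq_one, mul_inv_eq_iff_eq_mul, eq_comm]
    have h1 := φ.ker.card_mul_index
    rw [Subgroup.index_ker, hrange, hk, hcard, h.card] at h1
    omega

end Cfsg.Agent.PComp40
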