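import Cfsg.Agent.PComp40.TwoSmall.Local
import Cfsg.Agent.PComp40.TwoSmall.Group64
import Cfsg.Agent.PComp40.SixtyFour
import Cfsg.Agent.Coherence.SeqInd
import Cfsg.Agent.Lib.BlocksDefect.Central
import Cfsg.Agent.Lib.CharClifford.Clifford

/-!
# The nonlinear characters of the kernel of order 64
-/

set_option autoImplicit false
set_option linter.unusedSectionVars false

namespace Cfsg.Agent.PComp40

open Subgroup Cfsg.Agent.TwoFusionB
open scoped ComplexConjugate commutatorElement

section

variable {T : Type*} [Group T] [Fintype T] {ψ : MulAut T} (h : Shape64 ψ)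
include h

/-- A nonlinear character has degree four, vanishes off the centre, and sums to zero. -/
theorem nonlinear_facts (θ : Cfsg.IrrCharacter T) (hθ : (θ : T → ℂ) 1 ≠ 1) :
    (θ : T → ℂ) 1 = 4 ∧ (∀ x : T, x ∉ center T → (θ : T → ℂ) x = 0) ∧
      ∑ x : T, (θ : T → ℂ) x = 0 := by
  classical
  obtain ⟨hmem, hcard, -, hcom, hcon, -⟩ := center_facts h
  obtain ⟨d, hd⟩ := CharCore.IsCharacter.exists_degree (CharCore.irr_isCharacter θ)
  have hd0 : d ≠ 0 := fun e => CharCore.irr_apply_one_ne_zero θ (by rw [hd, e, Nat.cast_zero])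
  have hne : ∃ z ∈ center T, (θ : T → ℂ) z ≠ (θ : T → ℂ) 1 := by
    by_contra hk
    push Not at hk
    have hdb := Cfsg.Agent.Coherence.degree_bound θ.2 (center T) ⊤ ⊤ le_rfl
      (fun x _ y _ => by
        rw [← hcom, _root_.commutator_def]
        exact Subgroup.commutator_mem_commutator (mem_top x) (mem_top y)) hk
    rw [hd, Complex.natCast_re, Subgroup.card_top, h.card] at hdb
    have hdb' : d ^ 2 * 64 * 64 ≤ 64 ^ 2 := by exact_mod_cast hdb
    have h1 : d ^ 2 ≤ 1 := by omega
    have := (Nat.pow_le_one_iff (by norm_num : (2 : ℕ) ≠ 0)).1 h1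
    exact hθ (by rw [hd, show d = 1 by omega, Nat.cast_one])
  obtain ⟨z, hz, hzne⟩ := hne
  have hcv : Cfsg.Agent.BlocksDefect.cval θ z ≠ 1 := fun e => hzne (by
    rwa [Cfsg.Agent.BlocksDefect.cval, div_eq_one_iff_eq (CharCore.irr_apply_one_ne_zero θ)] at e)
  have hoff : ∀ x : T, x ∉ center T → (θ : T → ℂ) x = 0 := by
    intro x hx
    obtain ⟨y, hy⟩ := hcon x hx z hz
    by_contra h0
    have h1 := Cfsg.Agent.BlocksDefect.apply_mul_of_center θ hz x
    rw [← hy, CharCore.irr_isClassFunction θ] at h1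
    exact hcv (mul_right_cancel₀ h0 (h1.symm.trans (one_mul _).symm))
  refine ⟨?_, hoff, ?_⟩
  · have hnorm : ∀ u ∈ center T, (θ : T → ℂ) u * conj ((θ : T → ℂ) u) = (d : ℂ) ^ 2 := by
      intro u hu
      have hcu : Cfsg.Agent.BlocksDefect.cval θ u = 1 ∨ Cfsg.Agent.BlocksDefect.cval θ u = -1 := by
        have := Cfsg.Agent.BlocksDefect.cval_pow θ hu 2
        rw [(hmem u).1 hu, Cfsg.Agent.BlocksDefect.cval_one] at this
        exact sq_eq_one_iff.1 this.symm
      have h1 := Cfsg.Agent.BlocksDefect.apply_mul_of_center θ hu 1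
      rw [one_mul, hd] at h1
      rcases hcu with hc | hc <;> rw [h1, hc] <;> simp [pow_two]
    have h1 := CharCore.classInner_irr_self θ
    rw [Cfsg.classInner, h.card, ← Finset.sum_subset
      (Finset.subset_univ (Finset.univ.filter fun u => u ∈ center T))
      (fun x _ hx => by rw [hoff x (by simpa using hx), zero_mul]),
      Finset.sum_congr rfl fun u hu => hnorm u (by simpa using hu), Finset.sum_const,
      ← Fintype.card_subtype, ← Nat.card_eq_fintype_card, nsmul_eq_mul] at h1
    change ((64 : ℕ) : ℂ)⁻¹ * ((Nat.card (center T) : ℂ) * (d : ℂ) ^ 2) = 1 at h1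
    rw [hcard] at h1
    push_cast at h1
    have h2 : ((d ^ 2 : ℕ) : ℂ) = ((16 : ℕ) : ℂ) := by
      push_cast
      linear_combination 16 * h1
    have h3 : d ^ 2 = 4 ^ 2 := Nat.cast_injective h2
    rw [hd, Nat.pow_left_injective (by norm_num) h3]
    norm_num
  · have h1 : ∑ x : T, (θ : T → ℂ) (x * z) = ∑ x : T, (θ : T → ℂ) x :=
      Fintype.sum_equiv (Equiv.mulRight z) _ _ fun x => rfl
    rw [Finset.sum_congr rfl fun x _ => Cfsg.Agent.BlocksDefect.apply_mul_of_center θ hz x,
      ← Finset.mul_sum] at h1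
    by_contra h0
    exact hcv (mul_right_cancel₀ h0 (h1.trans (one_mul _).symm))

end

universe u

variable {G : Type u} [Group G] [Finite G] {P : Sylow 2 G} {L : Type u} [Group L] [Fintype L]

/-- The sum of a function on the kernel over the conjugates of `k`. -/
noncomputable def Frame.orbitSum (F : Frame P L) (θ : F.K → ℂ) (k : F.K) : ℂ :=
  ∑ l : L, θ (MulAut.conjNormal l k)

theorem Frame.indFun_coe (F : Frame P L) (θ : F.K → ℂ) (k : F.K) :
    Cfsg.indFun F.K θ (k : L) = (Nat.card F.K : ℂ)⁻¹ * F.orbitSum θ k := by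
  rw [CharInd.indFun_apply, Frame.orbitSum]
  congr 1
  refine Fintype.sum_equiv (Equiv.inv L) _ _ fun x => ?_
  have e : x⁻¹ * (k : L) * x = ((MulAut.conjNormal x⁻¹ k : F.K) : L) := by
    rw [MulAut.conjNormal_apply, inv_inv]
  rw [e, Equiv.inv_apply, CharInd.extendByZero_coe]

/-- The sum over a nonlinear character of order 64 of the conjugates of an involution. -/
theorem Frame.three_orbitSum (F : Frame P L) (hT : ThreeInvol F.K) {θ : F.K → ℂ}
    (h1 : θ 1 = 4) (hoff : ∀ x : F.K, x ∉ center F.K → θ x = 0) (hsum : ∑ x : F.K, θ x = 0)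
    (hmem : ∀ z : F.K, z ∈ center F.K ↔ z ^ 2 = 1) {k : F.K} (hk : k * k = 1) (hk1 : k ≠ 1) :
    3 * F.orbitSum θ k = -(4 * (Fintype.card L : ℂ)) := by
  classical
  have htr := (F.index_three_and_transitive hT).2
  have hzero : ∀ y : F.K, ¬ y * y = 1 → F.orbitSum θ y = 0 := fun y hy =>
    Finset.sum_eq_zero fun l _ => hoff _ fun hc => hy (by
      rw [hmem, pow_two, ← map_mul, EmbeddingLike.map_eq_one_iff] at hc
      exact hc)
  have hconst : ∀ y : F.K, y * y = 1 → y ≠ 1 → F.orbitSum θ y = F.orbitSum θ k := by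
    intro y hy hy1
    obtain ⟨m, rfl⟩ := htr k y hk hk1 hy hy1
    refine Fintype.sum_equiv (Equiv.mulRight m) _ _ fun l => ?_
    rw [Equiv.coe_mulRight, map_mul, MulAut.mul_apply]
  have hone : F.orbitSum θ 1 = (Fintype.card L : ℂ) * 4 := by
    simp [Frame.orbitSum, h1]
  have htot : ∑ y : F.K, F.orbitSum θ y = 0 := by
    simp only [Frame.orbitSum]
    rw [Finset.sum_comm]
    refine Finset.sum_eq_zero fun l _ => ?_
    rw [← hsum]
    exact Fintype.sum_equiv (MulAut.conjNormal l : MulAut F.K).toEquiv _ _ fun y => rfl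
  have hcard : (Finset.univ.filter fun y : F.K => y * y = 1).card = 4 := by
    rw [← Fintype.card_subtype, ← Nat.card_eq_fintype_card]
    exact hT.card4
  rw [← Finset.sum_subset (Finset.subset_univ (Finset.univ.filter fun y : F.K => y * y = 1))
      (fun y _ hy => hzero y (by simpa using hy)),
    ← Finset.add_sum_erase _ _ (show (1 : F.K) ∈ Finset.univ.filter fun y : F.K => y * y = 1 by
      simp), hone,
    Finset.sum_congr rfl fun y hy => hconst y (by simp at hy; exact hy.2)
      (Finset.ne_of_mem_erase hy),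
    Finset.sum_const, Finset.card_erase_of_mem (by simp), hcard] at htot
  rw [nsmul_eq_mul] at htot
  push_cast at htot
  linear_combination htot

/-- A nonabelian kernel with three involutions has the shape used by the character count. -/
theorem Frame.sixtyFour (F : Frame P L) (hs : SmallRank P)
    (hna : ∃ a b : F.K, a * b ≠ b * a) : SixtyFour F := by
  obtain ⟨ψ, hψ⟩ := F.shape64 hs hna
  have hT := F.threeInvol hs
  obtain ⟨hmem, hcard, hsq, hcom, -, hcent⟩ := center_facts hψ
  refine ⟨?_, (F.index_three_and_transitive hT).1, hmem, hcard, hsq, hcom, hcent,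
    fun θ hθ => ⟨(nonlinear_facts hψ θ hθ).1, (nonlinear_facts hψ θ hθ).2.1⟩,
    fun θ θ' hθ hθ' => funext fun g => ?_⟩
  · rw [← Nat.card_congr F.iso.toEquiv, hψ.card]
  obtain ⟨h1, hoff, hsum⟩ := nonlinear_facts hψ θ hθ
  obtain ⟨h1', hoff', hsum'⟩ := nonlinear_facts hψ θ' hθ'
  by_cases hg : g ∈ F.K
  · lift g to F.K using hg
    rw [F.indFun_coe, F.indFun_coe]
    congr 1
    by_cases hgg : g * g = 1
    · rcases eq_or_ne g 1 with rfl | hg1
      · simp [Frame.orbitSum, h1, h1']
      · have e := (F.three_orbitSum hT h1 hoff hsum hmem hgg hg1).trans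
          (F.three_orbitSum hT h1' hoff' hsum' hmem hgg hg1).symm
        exact mul_left_cancel₀ three_ne_zero e
    · have hc : ∀ l : L, MulAut.conjNormal l g ∉ center F.K := fun l hc => hgg (by
        rw [hmem, pow_two, ← map_mul, EmbeddingLike.map_eq_one_iff] at hc
        exact hc)
      rw [Frame.orbitSum, Frame.orbitSum, Finset.sum_eq_zero fun l _ => hoff _ (hc l),
        Finset.sum_eq_zero fun l _ => hoff' _ (hc l)]
  · rw [CharClifford.indFun_eq_zero_of_notMem F.K _ hg,
      CharClifford.indFun_eq_zero_of_notMem F.K _ hg]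

end Cfsg.Agent.PComp40
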