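import Cfsg.Agent.PComp40.Defs
import Cfsg.Agent.S1237
import Cfsg.Agent.S0949
import Cfsg.Agent.Lib.Thompson.Cores

/-!
# The local structure of a frame with three involutions
-/

set_option autoImplicit false
set_option linter.unusedSectionVars false

namespace Cfsg.Agent.PComp40

open Subgroup Cfsg.Agent.TwoFusionB

universe u

variable {G : Type u} [Group G] [Finite G] {P : Sylow 2 G} {L : Type u} [Group L] [Fintype L]

theorem Frame.sq_eq_one_iff (F : Frame P L) (x : F.K) : x * x = 1 ↔ F.ι x ^ 2 = 1 := by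
  rw [← map_pow, ← F.ι.map_one, F.ι_injective.eq_iff, pow_two]

theorem Frame.threeInvol (F : Frame P L) (hs : SmallRank P) : ThreeInvol F.K where
  hp := P.isPGroup'.of_equiv F.iso.symm
  cent x hx := by
    rw [mem_center_iff]
    intro y
    rcases eq_or_ne x 1 with rfl | hne
    · rw [mul_one, one_mul]
    · have h2 : orderOf (F.ι x) = 2 :=
        orderOf_eq_prime ((F.sq_eq_one_iff x).1 hx) (F.ι_ne_one hne)
      refine F.ι_injective ?_
      rw [map_mul, map_mul]
      exact ((hs.1 _ (F.ι_mem x) h2).2.2 _ (F.ι_mem y)).symm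
  card4 := by
    rw [← hs.2]
    refine Nat.card_congr (Equiv.ofBijective
      (fun x : {x : F.K // x * x = 1} =>
        (⟨F.ι x, F.ι_mem _, (F.sq_eq_one_iff _).1 x.2⟩ :
          {g : G // g ∈ (P : Subgroup G) ∧ g ^ 2 = 1})) ⟨?_, ?_⟩)
    · intro a b e
      simp only [Subtype.mk.injEq] at e
      exact Subtype.ext (F.ι_injective e)
    · rintro ⟨g, hg, hg2⟩
      obtain ⟨k, rfl⟩ := F.exists_ι_eq hg
      exact ⟨⟨k, (F.sq_eq_one_iff k).2 hg2⟩, rfl⟩

theorem Frame.fixed_mem (F : Frame P L) {l : L} {x : F.K} (hx : x ≠ 1)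
    (hl : MulAut.conjNormal l x = x) : l ∈ F.K := by
  refine F.centralizer_le (x : L) x.2 (fun e => hx (Subtype.ext e)) ?_
  rw [mem_centralizer_singleton_iff]
  have h1 := congrArg Subtype.val hl
  rw [MulAut.conjNormal_apply, mul_inv_eq_iff_eq_mul] at h1
  exact h1

/-- The three involutions are permuted transitively, and the index of the kernel is three. -/
theorem Frame.index_three_and_transitive (F : Frame P L) (hT : ThreeInvol F.K) :
    F.K.index = 3 ∧ ∀ x y : F.K, x * x = 1 → x ≠ 1 → y * y = 1 → y ≠ 1 →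
      ∃ l : L, MulAut.conjNormal l x = y := by
  classical
  have hcardI : Nat.card {x : F.K // x * x = 1 ∧ x ≠ 1} = 3 := by
    haveI := Fintype.ofFinite F.K
    have h4 := hT.card4
    rw [Nat.card_eq_fintype_card, Fintype.card_subtype] at h4 ⊢
    rw [show (Finset.univ.filter fun t : F.K => t * t = 1 ∧ t ≠ 1) =
      (Finset.univ.filter fun t : F.K => t * t = 1).erase 1 by ext; simp; tauto,
      Finset.card_erase_of_mem (by simp), h4]
  have hinj : ∀ x : F.K, x * x = 1 → x ≠ 1 → ∃ f : L ⧸ F.K →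
      {t : F.K // t * t = 1 ∧ t ≠ 1}, Function.Injective f ∧
        ∀ l : L, (f (QuotientGroup.mk l) : F.K) = MulAut.conjNormal l x := by
    intro x hx hx1
    refine ⟨Quotient.lift (fun l : L => (⟨MulAut.conjNormal l x, by
        rw [← map_mul, hx, map_one], by rwa [Ne, EmbeddingLike.map_eq_one_iff]⟩ :
          {t : F.K // t * t = 1 ∧ t ≠ 1})) ?_, ?_, fun l => rfl⟩
    · intro a b hab
      have hab' : a⁻¹ * b ∈ F.K := QuotientGroup.leftRel_apply.1 hab
      refine Subtype.ext ?_
      show MulAut.conjNormal a x = MulAut.conjNormal b x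
      rw [show b = a * (a⁻¹ * b) by group, map_mul, MulAut.mul_apply]
      congr 1
      refine Subtype.ext ?_
      rw [MulAut.conjNormal_apply]
      have h1 := congrArg Subtype.val
        (mem_center_iff.1 (hT.cent x hx) ⟨a⁻¹ * b, hab'⟩)
      simp only [Subgroup.coe_mul] at h1
      rw [h1, mul_inv_cancel_right]
    · intro q r hqr
      induction q using Quotient.inductionOn with
      | h a =>
      induction r using Quotient.inductionOn with
      | h b =>
      refine Quotient.sound (QuotientGroup.leftRel_apply.2 ?_)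
      have h1 : MulAut.conjNormal a x = MulAut.conjNormal b x := congrArg Subtype.val hqr
      refine F.fixed_mem hx1 ?_
      rw [map_mul, MulAut.mul_apply, ← h1, ← MulAut.mul_apply, ← map_mul, inv_mul_cancel, map_one]
      rfl
  obtain ⟨x₀, hx₀, hx₀'⟩ : ∃ x : F.K, x * x = 1 ∧ x ≠ 1 := by
    have : Nonempty {x : F.K // x * x = 1 ∧ x ≠ 1} :=
      (Nat.card_pos_iff.1 (by rw [hcardI]; norm_num)).1
    obtain ⟨⟨x, hx⟩⟩ := this
    exact ⟨x, hx⟩
  have hidx : F.K.index = 3 := by
    obtain ⟨f, hf, -⟩ := hinj x₀ hx₀ hx₀'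
    have h1 : F.K.index ≤ 3 := hcardI ▸ Nat.card_le_card_of_injective f hf
    have h2 : F.K.index ≠ 1 := fun h => F.ne_top (Subgroup.index_eq_one.1 h)
    have h3 := F.K.index_ne_zero_of_finite
    have h4 : F.K.index ≠ 2 := fun h => F.coprime (by rw [h])
    omega
  refine ⟨hidx, fun x y hx hx1 hy hy1 => ?_⟩
  obtain ⟨f, hf, hfl⟩ := hinj x hx hx1
  obtain ⟨q, hq⟩ := (hf.bijective_of_nat_card_le (by
    rw [hcardI]; exact hidx.ge)).2 ⟨y, hy, hy1⟩
  obtain ⟨l, rfl⟩ := QuotientGroup.mk_surjective q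
  exact ⟨l, (hfl l).symm.trans (congrArg Subtype.val hq)⟩

/-- An automorphism of order three of the kernel without fixed involutions, induced by `L`. -/
theorem Frame.exists_auto (F : Frame P L) (hT : ThreeInvol F.K) :
    ∃ a : L, a ∉ F.K ∧ a ^ 3 = 1 ∧
      (∀ x : F.K, MulAut.conjNormal a (MulAut.conjNormal a (MulAut.conjNormal a x)) = x) ∧
      ∀ x : F.K, x * x = 1 → MulAut.conjNormal a x = x → x = 1 := by
  have h3 : 3 ∣ Nat.card L := (F.index_three_and_transitive hT).1 ▸ F.K.index_dvd_card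
  haveI : Fact (Nat.Prime 3) := ⟨Nat.prime_three⟩
  obtain ⟨a, ha⟩ := exists_prime_orderOf_dvd_card' 3 h3
  have haK : a ∉ F.K := fun h => by
    obtain ⟨k, hk⟩ := IsPGroup.iff_orderOf.1 hT.hp ⟨a, h⟩
    rw [Subgroup.orderOf_mk, ha] at hk
    rcases k with _ | k
    · norm_num at hk
    · have h2 : 2 ∣ 3 := hk ▸ dvd_pow_self 2 k.succ_ne_zero
      norm_num at h2
  have ha3 : a ^ 3 = 1 := ha ▸ pow_orderOf_eq_one a
  refine ⟨a, haK, ha3, fun x => ?_, fun x _ hfix => ?_⟩
  · rw [← MulAut.mul_apply, ← MulAut.mul_apply, ← map_mul, ← map_mul,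
      show a * a * a = a ^ 3 by simp [pow_succ], ha3, map_one]
    rfl
  · by_contra h
    exact haK (F.fixed_mem h hfix)

/-- An abelian kernel with three involutions is impossible. -/
theorem Hyp.false_of_smallRank_abelian (h : Hyp P) (hs : SmallRank P)
    (hd : ¬ (Cfsg.IsElementaryAbelian 2 (P : Subgroup G) ∧
      ∀ x ∈ (P : Subgroup G), ∀ y ∈ (P : Subgroup G), x ≠ 1 → y ≠ 1 → ∃ g : G, g * x * g⁻¹ = y))
    (F : Frame P L) (hab : ∀ a b : F.K, a * b = b * a) : False := by
  have hT := F.threeInvol hs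
  obtain ⟨a, -, -, -, hfix⟩ := F.exists_auto hT
  obtain ⟨n, hn1, ⟨e⟩⟩ := S1237.homocyclic hT hab (MulAut.conjNormal a) hfix
  rcases eq_or_lt_of_le hn1 with rfl | hn2
  · have hsq : ∀ x : F.K, x * x = 1 := fun x => by
      refine e.injective ?_
      rw [map_mul, map_one]
      have : ∀ v : ZMod (2 ^ 1) × ZMod (2 ^ 1), v + v = 0 := by decide
      exact congrArg Multiplicative.ofAdd (this (Multiplicative.toAdd (e x)))
    refine hd ⟨⟨⟨⟨fun u v => ?_⟩⟩, fun x hx => ?_⟩, fun x hx y hy hx1 hy1 => ?_⟩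
    · obtain ⟨u', rfl⟩ := F.iso.surjective u
      obtain ⟨v', rfl⟩ := F.iso.surjective v
      rw [← map_mul, ← map_mul, hab]
    · obtain ⟨k, rfl⟩ := F.exists_ι_eq hx
      exact (F.sq_eq_one_iff k).1 (hsq k)
    · obtain ⟨k, rfl⟩ := F.exists_ι_eq hx
      obtain ⟨k', rfl⟩ := F.exists_ι_eq hy
      have hk : k ≠ 1 := fun e => hx1 (by rw [e, map_one])
      have hk' : k' ≠ 1 := fun e => hy1 (by rw [e, map_one])
      obtain ⟨l, hl⟩ :=
        (F.index_three_and_transitive hT).2 k k' (hsq k) hk (hsq k') hk'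
      exact isConj_iff.1 ((F.conj_iff k k').2
        (isConj_iff.2 ⟨l, by rw [← hl, MulAut.conjNormal_apply]⟩))
  · refine h.not_normal (S0949.result P n hn2 (F.iso.symm.trans e) fun N hN hodd => ?_).1
    rw [eq_bot_iff, ← h.core]
    exact Thompson.le_pPrimeCore hN (hodd.coprime_two_left.symm)

/-- A nonabelian kernel with three involutions has order 64. -/
theorem Frame.shape64 (F : Frame P L) (hs : SmallRank P)
    (hna : ∃ a b : F.K, a * b ≠ b * a) : ∃ ψ : MulAut F.K, Shape64 ψ := by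
  have hT := F.threeInvol hs
  obtain ⟨a, haK, ha3, hcube, hfix⟩ := F.exists_auto hT
  obtain ⟨z, hz, hz1, -⟩ := hT.exists_invol (MulAut.conjNormal a) hfix
  set σ : MulAut F.K := MulAut.conjNormal a with hσ
  have hσz : σ z ≠ z := fun e => hz1 (hfix z hz e)
  have hσ2 : σ z * σ z = 1 := by rw [← map_mul, hz, map_one]
  have hσz1 : σ z ≠ 1 := by rwa [Ne, EmbeddingLike.map_eq_one_iff]
  have hσ3 : orderOf σ = 3 := by
    haveI : Fact (Nat.Prime 3) := ⟨Nat.prime_three⟩
    refine orderOf_eq_prime (by rw [hσ, ← map_pow, ha3, map_one]) fun e => ?_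
    exact hσz (by rw [e]; rfl)
  have hS : Cfsg.IsSuzukiTwoGroup F.K := by
    refine ⟨inferInstance, hT.hp, hna, ⟨z, σ z, hσz.symm, hz1, hz, hσz1, hσ2⟩,
      zpowers σ, inferInstance, fun x y hx1 hx hy1 hy => ?_⟩
    have hinj : Function.Injective (fun k : zpowers σ => (⟨(k : MulAut F.K) x, by
        rw [← map_mul, hx, map_one], by rwa [Ne, EmbeddingLike.map_eq_one_iff]⟩ :
          {t : F.K // t * t = 1 ∧ t ≠ 1})) := by
      intro k k' e
      have e' : (k : MulAut F.K) x = (k' : MulAut F.K) x := congrArg Subtype.val e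
      obtain ⟨i, hi⟩ := mem_zpowers_iff.1 (zpowers σ |>.mul_mem (zpowers σ |>.inv_mem k.2) k'.2)
      have hx' : (MulAut.conjNormal (a ^ i) : MulAut F.K) x = x := by
        rw [map_zpow]
        show (σ ^ i) x = x
        rw [hi, MulAut.mul_apply, ← e', MulAut.inv_apply_self]
      have haiK := F.fixed_mem hx1 hx'
      have hai : a ^ i = 1 := by
        obtain ⟨j, hj⟩ := IsPGroup.iff_orderOf.1 hT.hp ⟨a ^ i, haiK⟩
        rw [Subgroup.orderOf_mk] at hj
        have hd : orderOf (a ^ i) ∣ 3 := by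
          refine orderOf_dvd_of_pow_eq_one ?_
          rw [← zpow_natCast, ← zpow_mul, mul_comm, zpow_mul, zpow_natCast, ha3, one_zpow]
        rcases (Nat.dvd_prime Nat.prime_three).1 hd with h1 | h1
        · exact orderOf_eq_one_iff.1 h1
        · rw [h1] at hj
          rcases j with _ | j
          · norm_num at hj
          · have h2 : 2 ∣ 3 := hj ▸ dvd_pow_self 2 j.succ_ne_zero
            norm_num at h2
      have hi' : (MulAut.conjNormal (a ^ i) : MulAut F.K) =
          (k : MulAut F.K)⁻¹ * (k' : MulAut F.K) := by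
        rw [map_zpow]; exact hi
      rw [hai, map_one] at hi'
      exact Subtype.ext (inv_mul_eq_one.1 hi'.symm)
    have hcardI : Nat.card {t : F.K // t * t = 1 ∧ t ≠ 1} ≤ Nat.card (zpowers σ) := by
      rw [Nat.card_zpowers, hσ3]
      haveI := Fintype.ofFinite F.K
      classical
      have h4 := hT.card4
      rw [Nat.card_eq_fintype_card, Fintype.card_subtype] at h4 ⊢
      rw [show (Finset.univ.filter fun t : F.K => t * t = 1 ∧ t ≠ 1) =
        (Finset.univ.filter fun t : F.K => t * t = 1).erase 1 by ext; simp; tauto,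
        Finset.card_erase_of_mem (by simp), h4]
    obtain ⟨k, hk⟩ := (hinj.bijective_of_nat_card_le hcardI).2 ⟨y, hy, hy1⟩
    exact ⟨k, congrArg Subtype.val hk,
      fun k' hk' => hinj (hk.trans (Subtype.ext hk'.symm)) |>.symm⟩
  exact ⟨σ, S1237.shape64_of_suzuki hS hT σ hcube hfix⟩

end Cfsg.Agent.PComp40
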